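import Cfsg.Agent.Spor.Rank
import Cfsg.Agent.Spor.G1365.S.Main
import Cfsg.Agent.Spor.G1365.L.Main
import Cfsg.Agent.Spor.G1365N1.Main
import Cfsg.Agent.Spor.DC
import Cfsg.Agent.Spor.Suz416.Main
import Cfsg.Agent.Spor.Suz280.Main
import Cfsg.Agent.Spor.Suz135.Main
import Cfsg.Agent.Spor.Suz16.Main
import Cfsg.Agent.Spor.G1365A1.Main

set_option autoImplicit false
set_option maxRecDepth 100000

namespace Cfsg.Agent.Spor.G1365

theorem bound : Bound 6 6 RL 251596800 := show Bound 6 6 RL (416 * (280 * (135 * 16))) from (Suz416.cert.bound' (Suz280.cert.bound (Suz135.cert.bound Suz16.cert.bound_nil (H := [([], 7, false), ([], 7, false), ([], 7, false), ([], 1, true), ([], 2, true), ([], 5, true), ([], 6, true)]) (by decide +kernel)) (H := [([], 12, false), ([], 12, false), ([], 12, false), ([], 12, false), ([], 0, true), ([], 1, true), ([], 2, true), ([], 4, true), ([], 5, true), ([], 7, true), ([], 10, true)]) (by decide +kernel)) (H := [([], 0, true), ([], 1, true), ([], 2, true), ([], 3, true), ([], 4, true), ([], 5, true), ([], 6, true), ([], 7, true),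 ([], 8, true), ([], 9, true), ([], 10, true), ([], 11, true), ([], 12, true), ([], 13, true), ([], 14, true), ([], 15, true), ([], 16, true), ([], 17, true)]) (H' := [([], 18, false), ([], 18, false), ([], 18, false), ([], 18, false), ([], 18, false), ([], 0, true), ([], 1, true), ([], 2, true), ([], 3, true), ([], 5, true), ([], 6, true), ([], 7, true), ([], 9, true), ([], 10, true), ([], 12, true), ([], 15, true), ([], 17, true)]) (by decide +kernel) (by decide +kernel))

/-- the permutation group -/
noncomputable abbrev P : Subgroup (Equiv.Perm ℕ) := gsub 6 fP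
noncomputable abbrev p : ℕ → P := lift P fP

theorem lbP : 251596800 ∣ Nat.card P := by
  rw [P, L.eG]; exact L.lb

theorem cardP : Nat.card P = 251596800 := Nat.dvd_antisymm (bound _ _ cert.pres) lbP

instance instFiniteP : Finite P := Nat.finite_of_card_ne_zero (by rw [cardP]; norm_num)

theorem coatomP : IsCoatom (wsub 6 p BW) :=
  cert.self.coatom (by norm_num) ((map_wsub_lift fP BW).trans S.eH)
    ((Subgroup.range_subtype _).trans S.eG) S.hX S.hXc S.hY

theorem coreP : (wsub 6 p BW).normalCore = ⊥ :=
  cert.self.core_eq_bot P.subtype_injective ((Subgroup.range_subtype P).symm ▸ S.hfix)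

theorem presP : Pres 6 6 RL p := cert.pres.lift

theorem presN : Pres 6 6 (RL ++ L.XN) p := (cert.pres.append L.hXN).lift

def AW : List (List ℕ) := [[0], [2, 10, 0, 2, 0, 2, 0, 2, 0, 2, 0, 10, 2]]

theorem normA : ∀ x ∈ wsub 6 p BW, ∀ a ∈ wsub 6 p AW, x * a * x⁻¹ ∈ wsub 6 p AW :=
  norm_of_list presP.ivOk (I := [[[0], [2]], [[0], [2]], [[0], [2]], [[0], [2]], [[0], [2]], [[2, 0], [0]], [[2], [2, 0]]])
    (consAll_sound presP.ivOk presN.rel (H := [([], 27, false), ([], 18, true), ([], 1, false), ([], 19, true), ([], 2, false), ([], 20, true), ([], 3, false), ([], 21, true), ([], 4, false), ([], 22, true), ([], 23, true), ([], 24, true), ([], 25, true), ([], 26, true)]) (by decide +kernel))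

theorem commA : ∀ x ∈ wsub 6 p AW, ∀ a ∈ wsub 6 p AW, x * a = a * x :=
  comm_of_list presP.ivOk (consAll_sound presP.ivOk presN.rel (H := [([], 27, false), ([], 18, true), ([], 18, false), ([], 27, false)]) (by decide +kernel))

theorem casesP (M : Subgroup P) (hM : M.Normal) : M = ⊥ ∨ commutator P ≤ M :=
  iwasawa coatomP coreP normA commA
    (G1365N1.cert.bound_nil.normalClosure presP (gsub_lift 6 fP) _ (H := [([], 0, true), ([], 1, true), ([], 2, true), ([], 3, true), ([], 4, true), ([], 5, true), ([], 6, true), ([], 7, true), ([], 8, true), ([], 9, true), ([], 10, true), ([], 11, true), ([], 12, true), ([], 13, true), ([], 14, true), ([], 15, true), ([], 16, true), ([], 17, true), ([], 18, true), ([2, 0, 2, 0, 10, 2], 18, true)]) (by decide +kernel)) M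

theorem perfectP : commutator P = ⊤ :=
  G1365A1.cert.bound_nil.perfect presP (gsub_lift 6 fP) [[0], [2], [4], [6], [8], [10]] (H := [([], 0, true), ([], 1, true), ([], 2, true), ([], 3, true), ([], 4, true), ([], 5, true), ([], 6, true), ([], 7, true), ([], 8, true), ([], 9, true), ([], 10, true), ([], 11, true), ([], 12, true), ([], 13, true), ([], 14, true), ([], 15, true), ([], 16, true), ([], 17, true), ([], 19, true), ([], 1, true), ([], 2, true), ([], 3, true), ([], 4, true), ([], 26, true), ([], 6, true), ([], 7, true), ([], 29, true), ([], 33, true), ([], 10, true), ([], 11, true), ([], 40, true), ([], 13, true), ([], 14, true)]) (by decide +kernel)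

theorem simpleP : IsSimpleGroup P :=
  iwasawa_simple coatomP coreP normA commA
    (G1365N1.cert.bound_nil.normalClosure presP (gsub_lift 6 fP) _ (H := [([], 0, true), ([], 1, true), ([], 2, true), ([], 3, true), ([], 4, true), ([], 5, true), ([], 6, true), ([], 7, true), ([], 8, true), ([], 9, true), ([], 10, true), ([], 11, true), ([], 12, true), ([], 13, true), ([], 14, true), ([], 15, true), ([], 16, true), ([], 17, true), ([], 18, true), ([2, 0, 2, 0, 10, 2], 18, true)]) (by decide +kernel)) perfectP

end Cfsg.Agent.Spor.G1365
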